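import Groth.Agent.ResProp.EF.K65.Out
import Groth.Agent.ResProp.EF.K208.FreeGL
import Groth.Agent.ResProp.EF.K653.FreeGL
import Groth.Agent.ResProp.EF.K701.OutOne
import Groth.Prelude.Def_GLin5
import Mathlib.Algebra.Module.Projective
import Mathlib.RingTheory.Localization.BaseChange

/-!
# `Mat_N → GL_N`, `a ↦ a det^(-K)`, is universally injective

`isSMulRegular_det_tensor` : `det` is a nonzerodivisor on `O(Mat_N) ⊗ M` for every `k`-module `M`.
`injective_rTensor` / `injective_lTensor` : `iotaK` stays injective after tensoring with any `M`.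
`injP_iotaK` : `InjP p (iotaK ..)`.
-/

set_option autoImplicit false

universe u v w

open TensorProduct MvPolynomial

noncomputable section

namespace Groth.Agent.ResProp.EF.K922

open Groth.Agent.ResProp.EF

section Split

variable {k : Type u} [CommRing k]

/-- multiplication by `f` with projective cokernel over `k` is `k`-split -/
theorem exists_retract {A : Type v} [CommRing A] [Algebra k A] (f : A) (hf : f ∈ nonZeroDivisors A)
    [Module.Projective k (A ⧸ Ideal.span {f})] : ∃ l : A →ₗ[k] A, ∀ a, l (f * a) = a := by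
  let g : A →ₗ[k] (A ⧸ Ideal.span {f}) := (Ideal.Quotient.mkₐ k (Ideal.span {f})).toLinearMap
  have hg : Function.Surjective g := Ideal.Quotient.mk_surjective
  have hinj : Function.Injective (LinearMap.mulLeft k f) := fun a b h =>
    (mul_cancel_left_mem_nonZeroDivisors hf).1 h
  have hex : Function.Exact (LinearMap.mulLeft k f) g := by
    intro a
    rw [Set.mem_range]
    change Ideal.Quotient.mk (Ideal.span {f}) a = 0 ↔ _
    rw [Ideal.Quotient.eq_zero_iff_mem, Ideal.mem_span_singleton]
    constructor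
    · rintro ⟨b, rfl⟩
      exact ⟨b, rfl⟩
    · rintro ⟨b, rfl⟩
      exact ⟨b, rfl⟩
  obtain ⟨s, hs⟩ := Module.projective_lifting_property g LinearMap.id hg
  have h1 : (∃ l, g ∘ₗ l = LinearMap.id) ↔ ∃ l, l ∘ₗ LinearMap.mulLeft k f = LinearMap.id :=
    (hex.split_tfae hinj hg).out 0 1
  obtain ⟨l, hl⟩ := h1.1 ⟨s, hs⟩
  exact ⟨l, fun a => LinearMap.congr_fun hl a⟩

end Split

section Poly

variable {k : Type u} [CommRing k]

/-- multiplication by the determinant of a generic matrix is injective and `k`-split -/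
theorem exists_retract_det {σ : Type v} [Finite σ] {n : Type w} [Fintype n] [DecidableEq n] {e : n → n → σ}
    (he : Function.Injective fun p : n × n => e p.1 p.2) :
    (K653.FreeGL.vm (R := k) e).det ∈ nonZeroDivisors (MvPolynomial σ k) ∧
    ∃ l : MvPolynomial σ k →ₗ[k] MvPolynomial σ k, ∀ a, l ((K653.FreeGL.vm (R := k) e).det * a) = a := by
  cases nonempty_fintype σ
  let : LinearOrder σ := LinearOrder.lift' (Fintype.equivFin σ) (Fintype.equivFin σ).injective
  let m : MonomialOrder σ := MonomialOrder.lex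
  have h0 := K653.FreeGL.isUnit_leadingCoeff_det (R := k) m (e := e) he
  have h1 := MonomialOrder.mem_nonZeroDivisors_of_leadingCoeff_mem_nonZeroDivisors h0.mem_nonZeroDivisors
  have : Module.Free k (MvPolynomial σ k ⧸ Ideal.span {(K653.FreeGL.vm (R := k) e).det}) :=
    K208.free_quot m h0
  exact ⟨h1, exists_retract _ h1⟩

/-- the determinant of the generic matrix -/
abbrev dt (N : ℕ) (k : Type u) [CommRing k] : MvPolynomial (Fin N × Fin N) k :=
  (Matrix.mvPolynomialX (Fin N) (Fin N) k).det

theorem exists_retract_dt (N : ℕ) : dt N k ∈ nonZeroDivisors (MvPolynomial (Fin N × Fin N) k) ∧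
    ∃ l : MvPolynomial (Fin N × Fin N) k →ₗ[k] MvPolynomial (Fin N × Fin N) k, ∀ a, l (dt N k * a) = a :=
  exists_retract_det (k := k) (e := fun i j : Fin N => (i, j)) fun _ _ h => h

end Poly

section Loc

variable {k : Type u} [CommRing k]

/-- if multiplication by `f` on `A` is `k`-split, then `A → A_f` is universally injective over `k` -/
theorem injective_rTensor_loc {A : Type v} [CommRing A] [Algebra k A] (f : A)
    (hl : ∃ l : A →ₗ[k] A, ∀ a, l (f * a) = a) (M : Type w) [AddCommGroup M] [Module k M] :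
    Function.Injective ((Algebra.linearMap A (Localization.Away f)).restrictScalars k |>.rTensor M) := by
  obtain ⟨l, hl⟩ := hl
  have hreg : ∀ x : A ⊗[k] M, f • x = 0 → x = 0 := by
    intro x hx
    have h1 : l.rTensor M (f • x) = x := by
      clear hx
      induction x with
      | zero => simp
      | add x y hx hy => rw [smul_add, map_add, hx, hy]
      | tmul a m => rw [TensorProduct.smul_tmul', LinearMap.rTensor_tmul, smul_eq_mul, hl]
    rw [← h1, hx, map_zero]
  have hpow : ∀ (n : ℕ) (x : A ⊗[k] M), f ^ n • x = 0 → x = 0 := by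
    intro n
    induction n with
    | zero => intro x hx; rwa [pow_zero, one_smul] at hx
    | succ n ih => intro x hx; rw [pow_succ, mul_smul] at hx; exact hreg x (ih _ hx)
  rw [injective_iff_map_eq_zero]
  intro x hx
  have h2 : IsLocalizedModule (Submonoid.powers f)
      (AlgebraTensorModule.rTensor k M (Algebra.linearMap A (Localization.Away f))) := inferInstance
  have h3 : AlgebraTensorModule.rTensor k M (Algebra.linearMap A (Localization.Away f)) x = 0 := hx
  obtain ⟨⟨_, n, rfl⟩, hs⟩ := (IsLocalizedModule.eq_zero_iff (Submonoid.powers f) _).1 h3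
  exact hpow n x hs

end Loc

section Iota

variable {k : Type u} [CommRing k]

open K701.Out

/-- the embedding `a ↦ φ a ε^K`, `A → B`, is universally injective over `k`, if `A → A_f` factors
through `A → B` and multiplication by `f` is `k`-split -/
theorem injective_rTensor_emb {A : Type v} [CommRing A] [Algebra k A] {B : Type v} [CommRing B] [Algebra k B]
    (φ : A →ₐ[k] B) {f : A} {ε : B} (h : φ f * ε = 1) (K : ℕ) (hl : ∃ l : A →ₗ[k] A, ∀ a, l (f * a) = a)
    (ψ : B →ₐ[k] Localization.Away f) (hψ : ∀ a, ψ (φ a) = algebraMap A (Localization.Away f) a)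
    (M : Type w) [AddCommGroup M] [Module k M] :
    Function.Injective ((LinearMap.mulRight k (ε ^ K) ∘ₗ φ.toLinearMap).rTensor M) := by
  have h1 : (Algebra.linearMap A (Localization.Away f)).restrictScalars k =
      (LinearMap.mulRight k (algebraMap A (Localization.Away f) f ^ K)) ∘ₗ
        (ψ.toLinearMap ∘ₗ (LinearMap.mulRight k (ε ^ K) ∘ₗ φ.toLinearMap)) := by
    refine LinearMap.ext fun a => ?_
    change algebraMap A (Localization.Away f) a = ψ (φ a * ε ^ K) * _
    rw [← hψ, ← hψ, map_mul, mul_assoc, map_pow, ← mul_pow, ← map_mul, mul_comm ε, h, map_one, one_pow, mul_one]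
  have h2 := injective_rTensor_loc f hl M
  rw [h1, LinearMap.rTensor_comp, LinearMap.rTensor_comp] at h2
  exact (Function.Injective.of_comp (Function.Injective.of_comp h2))

open CoordGrp

theorem toGLn_det (N : ℕ) : Mat.toGLn N k (Mat.det N k) = GLn.det := by
  rw [GLn.det_eq, Mat.det]
  change ((Mat.toGLn N k : Mat N k →ₐc[k] GLn N k) : Mat N k →ₐ[k] GLn N k) _ = _
  rw [AlgHom.map_det]
  congr 1
  ext i j
  exact Mat.toGLn_X i j

theorem exists_retract_Mat (N : ℕ) : ∃ l : Mat N k →ₗ[k] Mat N k, ∀ a, l (Mat.det N k * a) = a :=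
  (exists_retract_dt (k := k) N).2

/-- the algebra map `O(GL_N) → O(Mat_N)_det` -/
def psi (N : ℕ) : GLn N k →ₐ[k] Localization.Away (Mat.det N k) :=
  GLn.pt N k ((Algebra.ofId (Mat N k) (Localization.Away (Mat.det N k))).restrictScalars k |>.mapMatrix (Mat.genMat N k))
    (IsLocalization.Away.invSelf (Mat.det N k)) (by
      rw [← AlgHom.map_det]
      exact IsLocalization.Away.mul_invSelf (Mat.det N k))

theorem psi_toGLn (N : ℕ) (a : Mat N k) :
    psi N (Mat.toGLn N k a) = algebraMap (Mat N k) (Localization.Away (Mat.det N k)) a := by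
  have h : (psi (k := k) N).comp ((Mat.toGLn N k : Mat N k →ₐc[k] GLn N k) : Mat N k →ₐ[k] GLn N k) =
      (Algebra.ofId (Mat N k) (Localization.Away (Mat.det N k))).restrictScalars k := by
    refine Mat.algHom_ext fun i j => ?_
    change psi N (Mat.toGLn N k (Mat.X i j)) = _
    rw [Mat.toGLn_X, psi, GLn.pt_X]
    rfl
  exact AlgHom.congr_fun h a

/-- the algebra map `O(Mat_N) → O(GL_N)` -/
abbrev phi (N : ℕ) : Mat N k →ₐ[k] GLn N k := ((Mat.toGLn N k : Mat N k →ₐc[k] GLn N k) : Mat N k →ₐ[k] GLn N k)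

theorem phi_det (N : ℕ) : phi (k := k) N (Mat.det N k) * GLn.Dinv = 1 := by
  change Mat.toGLn N k (Mat.det N k) * _ = 1
  rw [toGLn_det, GLn.det_mul_Dinv]

/-- `a ↦ a det^(-K)`, `O(Mat_N) → O(GL_N)`, is universally injective over `k` -/
theorem injective_rTensor_iotaK (N K : ℕ) (M : Type w) [AddCommGroup M] [Module k M] :
    Function.Injective ((iotaK (phi (k := k) N) GLn.Dinv K).rTensor M) :=
  injective_rTensor_emb (phi (k := k) N) (phi_det N) K (exists_retract_Mat N) (psi N) (psi_toGLn N) M

theorem injective_lTensor_iotaK (N K : ℕ) (M : Type w) [AddCommGroup M] [Module k M] :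
    Function.Injective ((iotaK (phi (k := k) N) GLn.Dinv K).lTensor M) :=
  (LinearMap.lTensor_inj_iff_rTensor_inj M _).2 (injective_rTensor_iotaK N K M)

/-- **InjP for the stages of `GL_N`** -/
theorem injP_iotaK (p N K : ℕ) : K65.InjP p (iotaK (phi (k := k) N) GLn.Dinv K) := fun M _ _ _ =>
  injective_lTensor_iotaK N K M

theorem range_iotaK_mono (N : ℕ) {K K' : ℕ} (h : K ≤ K') :
    LinearMap.range (iotaK (phi (k := k) N) GLn.Dinv K) ≤ LinearMap.range (iotaK (phi (k := k) N) GLn.Dinv K') := by
  rintro _ ⟨a, rfl⟩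
  refine ⟨a * Mat.det N k ^ (K' - K), ?_⟩
  have h1 : (GLn.Dinv : GLn N k) ^ K' = GLn.Dinv ^ (K' - K) * GLn.Dinv ^ K := by
    rw [← pow_add, Nat.sub_add_cancel h]
  rw [iotaK_apply, iotaK_apply, map_mul, map_pow, h1, mul_assoc, ← mul_assoc (_ ^ (K' - K)), ← mul_pow, phi_det,
    one_pow, one_mul]

/-- every element of `O(GL_N)` is in the image of `a ↦ a det^(-K)` for some `K` -/
theorem exists_iotaK (N : ℕ) (b : GLn N k) : ∃ K, b ∈ LinearMap.range (iotaK (phi (k := k) N) GLn.Dinv K) := by
  obtain ⟨x, rfl⟩ : ∃ x : GLb N k, GLn.mk N k x = b := Ideal.Quotient.mk_surjective b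
  refine MvPolynomial.induction_on (motive := fun x : MvPolynomial (GLPoly.Idx N) k =>
    ∃ K, GLn.mk N k x ∈ LinearMap.range (iotaK (phi (k := k) N) GLn.Dinv K)) x ?_ ?_ ?_
  · intro a
    refine ⟨0, algebraMap k (Mat N k) a, ?_⟩
    rw [iotaK_apply, pow_zero, mul_one, AlgHom.commutes]
    exact ((GLn.mk N k).commutes a).symm
  · rintro x y ⟨K, hK⟩ ⟨L, hL⟩
    refine ⟨max K L, ?_⟩
    have h1 : GLn.mk N k ((x : MvPolynomial (GLPoly.Idx N) k) + y : MvPolynomial (GLPoly.Idx N) k) =
      GLn.mk N k x + GLn.mk N k y := map_add (GLn.mk N k) _ _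
    have h2 := Submodule.add_mem _ (range_iotaK_mono N (le_max_left K L) hK) (range_iotaK_mono N (le_max_right K L) hL)
    exact h1 ▸ h2
  · rintro x s ⟨K, a, ha⟩
    refine ⟨K + 1, ?_⟩
    have h1 : GLn.mk N k (x * (MvPolynomial.X s : MvPolynomial (GLPoly.Idx N) k)) =
      GLn.mk N k x * GLn.mk N k (MvPolynomial.X s : MvPolynomial (GLPoly.Idx N) k) := map_mul (GLn.mk N k) _ _
    rcases s with ⟨i, j⟩ | ⟨⟩
    · refine range_iotaK_mono N (Nat.le_succ K) ⟨a * Mat.X i j, ?_⟩
      refine Eq.trans ?_ h1.symm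
      rw [← ha, iotaK_apply, iotaK_apply, map_mul]
      have h2 : phi N (Mat.X i j : Mat N k) = GLn.X i j := Mat.toGLn_X i j
      rw [h2]
      change _ = _ * GLn.X i j
      ring
    · refine ⟨a, ?_⟩
      refine Eq.trans ?_ h1.symm
      rw [← ha, iotaK_apply, iotaK_apply, pow_succ, ← mul_assoc]
      rfl

/-- the exhaustion of `O(GL_N)` by the images of the stages -/
theorem exists_iotaK_finset (N : ℕ) (F : Finset (GLn N k)) : ∃ K, ∀ b ∈ F,
    b ∈ LinearMap.range (iotaK (phi (k := k) N) GLn.Dinv K) := by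
  classical
  choose K hK using exists_iotaK (k := k) N
  exact ⟨F.sup K, fun b hb => range_iotaK_mono N (Finset.le_sup hb) (hK b)⟩

end Iota

end Groth.Agent.ResProp.EF.K922
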