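import Groth.Agent.ResProp.EF.K65.Defs

/-!
# (T4): the product of the powers of the leading principal minors
-/

set_option autoImplicit false

open MvPolynomial

namespace Groth.Agent.ResProp.EF.K922

open Groth.Agent.ResProp.EF.K65

universe u

variable {m : ℕ} {S : Type u} [CommRing S]

/-- the leading principal block of size `k + 1` -/
def blk (Y : Matrix (Fin m) (Fin (m + 1)) S) (k : Fin m) : Matrix (Fin (k + 1)) (Fin (k + 1)) S :=
  Y.submatrix (Fin.castLE (by omega)) (Fin.castLE (by omega))

theorem ev_det {R : Type u} [CommRing R] [Algebra R S] (Y : Matrix (Fin m) (Fin (m + 1)) S) (k : Fin m) :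
    ev Y (blk (gen m (m + 1) R) k).det = (blk Y k).det := by
  rw [AlgHom.map_det]
  congr 1
  ext a b
  simp [blk, gen, ev]

/-- the leading minor has row degrees `1` in the rows `0, .., k` -/
theorem wh_det {R : Type u} [CommRing R] (k : Fin m) :
    IsWeightedHomogeneous (wt m (m + 1)) (blk (gen m (m + 1) R) k).det
      (fun i => if (i : ℕ) ≤ k then 1 else 0) := by
  rw [Matrix.det_apply]
  refine (weightedHomogeneousSubmodule R (wt m (m + 1)) _).sum_mem fun σ _ => ?_
  rw [Units.smul_def, ← Int.cast_smul_eq_zsmul R]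
  refine Submodule.smul_mem _ _ ?_
  rw [mem_weightedHomogeneousSubmodule]
  have h1 : IsWeightedHomogeneous (wt m (m + 1))
      (∏ i, blk (gen m (m + 1) R) k (σ i) i)
      (∑ i : Fin (k + 1), wt m (m + 1) (Fin.castLE (by omega) (σ i), Fin.castLE (by omega) i)) := by
    refine IsWeightedHomogeneous.prod _ _ _ fun i _ => ?_
    exact isWeightedHomogeneous_X R (wt m (m + 1)) _
  convert h1 using 1
  have h2 : ∀ i : Fin (k + 1), wt m (m + 1) (Fin.castLE (show (k : ℕ) + 1 ≤ m by omega) (σ i),
      Fin.castLE (show (k : ℕ) + 1 ≤ m + 1 by omega) i) =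
      Pi.single (Fin.castLE (show (k : ℕ) + 1 ≤ m by omega) (σ i)) 1 := fun i => rfl
  simp only [h2]
  rw [Equiv.sum_comp σ fun i => (Pi.single (Fin.castLE (show (k : ℕ) + 1 ≤ m by omega) i) 1 : Fin m → ℕ)]
  funext i
  rw [Finset.sum_apply]
  by_cases h : (i : ℕ) ≤ k
  · rw [if_pos h, Finset.sum_eq_single (⟨i, by omega⟩ : Fin (k + 1))]
    · have : (Fin.castLE (show (k : ℕ) + 1 ≤ m by omega) (⟨i, by omega⟩ : Fin (k + 1))) = i := Fin.ext rfl
      rw [this, Pi.single_eq_same]
    · intro b _ hb
      refine Pi.single_eq_of_ne ?_ _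
      intro h3
      exact hb (Fin.ext (show (b : ℕ) = (i : ℕ) from (congrArg Fin.val h3).symm))
    · exact fun h3 => absurd (Finset.mem_univ _) h3
  · rw [if_neg h, Finset.sum_eq_zero]
    intro b _
    refine Pi.single_eq_of_ne ?_ _
    intro h3
    apply h
    rw [h3]
    have := b.2
    simp only [Fin.val_castLE]
    omega

/-- row operations do not change the leading minors -/
theorem det_updateRow (Y : Matrix (Fin m) (Fin (m + 1)) S) (c : S) (i j : Fin m) (hij : i < j) (k : Fin m) :
    (blk (Y.updateRow j (Y j + c • Y i)) k).det = (blk Y k).det := by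
  by_cases h : (j : ℕ) ≤ k
  · have hi : (i : ℕ) ≤ k := le_trans (le_of_lt hij) h
    have h1 : blk (Y.updateRow j (Y j + c • Y i)) k =
        (blk Y k).updateRow ⟨j, by omega⟩ (blk Y k ⟨j, by omega⟩ + c • blk Y k ⟨i, by omega⟩) := by
      ext a b
      by_cases ha : a = ⟨j, by omega⟩
      · subst ha
        rw [Matrix.updateRow_self]
        change (Y.updateRow j (Y j + c • Y i)) j _ = _
        rw [Matrix.updateRow_self]
        rfl
      · rw [Matrix.updateRow_ne ha]
        change (Y.updateRow j (Y j + c • Y i)) _ _ = _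
        rw [Matrix.updateRow_ne]
        · rfl
        · intro h3
          exact ha (Fin.ext (show (a : ℕ) = (j : ℕ) from congrArg Fin.val h3))
    rw [h1]
    exact Matrix.det_updateRow_add_smul_self _ (fun h2 => absurd (congrArg Fin.val h2) (by simp; omega)) c
  · congr 1
    ext a b
    change (Y.updateRow j (Y j + c • Y i)) _ _ = _
    rw [Matrix.updateRow_ne]
    · rfl
    · intro h3
      apply h
      rw [← h3]
      have := a.2
      simp only [Fin.val_castLE]
      omega

/-- the product of the powers of the leading minors -/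
noncomputable def ff (R : Type u) [CommRing R] (m q : ℕ) : P m (m + 1) R :=
  ∏ k : Fin m, (blk (gen m (m + 1) R) k).det ^ (q - 1)

theorem ev_ff {R : Type u} [CommRing R] [Algebra R S] (q : ℕ) (Y : Matrix (Fin m) (Fin (m + 1)) S) :
    ev Y (ff R m q) = ∏ k : Fin m, (blk Y k).det ^ (q - 1) := by
  rw [ff, map_prod]
  exact Finset.prod_congr rfl fun k _ => by rw [map_pow, ev_det]

theorem MH_ff (R : Type u) [CommRing R] (m q : ℕ) : MH (mu m q) (ff R m q) := by
  have h1 : IsWeightedHomogeneous (wt m (m + 1)) (ff R m q)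
      (∑ k : Fin m, (q - 1) • (fun i : Fin m => if (i : ℕ) ≤ k then 1 else 0)) :=
    IsWeightedHomogeneous.prod _ _ _ fun k _ => (wh_det k).pow _
  have h2 : (∑ k : Fin m, (q - 1) • (fun i : Fin m => if (i : ℕ) ≤ k then 1 else 0)) = mu m q := by
    funext i
    rw [Finset.sum_apply]
    simp only [Pi.smul_apply, smul_eq_mul, mul_ite, mul_one, mul_zero]
    rw [Finset.sum_ite, Finset.sum_const_zero, add_zero, Finset.sum_const, smul_eq_mul, mu]
    congr 1
    have h3 : (Finset.univ.filter fun k : Fin m => (i : ℕ) ≤ k) = Finset.Ici i := by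
      ext k
      rw [Finset.mem_filter, Finset.mem_Ici, Fin.le_def]
      exact ⟨fun h => h.2, fun h => ⟨Finset.mem_univ _, h⟩⟩
    rw [h3, Fin.card_Ici]
  rw [h2] at h1
  exact h1

theorem t4 : T4.{u} := by
  intro R _ m q
  refine ⟨ff R m q, ⟨MH_ff R m q, ?_⟩, ?_⟩
  · intro S _ _ Y c i j hij _
    rw [ev_ff, ev_ff]
    exact Finset.prod_congr rfl fun k _ => by rw [det_updateRow Y c i j hij k]
  · rw [ev_ff]
    refine Finset.prod_eq_one fun k _ => ?_
    have h1 : blk (Matrix.of fun (i : Fin m) (j : Fin (m + 1)) => if (i : ℕ) = (j : ℕ) then (1 : R) else 0) k = 1 := by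
      ext a b
      rw [Matrix.one_apply]
      change (if _ then _ else _) = _
      simp only [Fin.val_castLE, Fin.ext_iff]
    rw [h1, Matrix.det_one, one_pow]

end Groth.Agent.ResProp.EF.K922
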